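import Groth.Agent.CdFin.TensorCd
import Groth.Agent.VarDim.Top
import Groth.Agent.S12237
import Groth.Prelude.Def_Cyc
import Groth.Agent.IndEtLib.Sys
import Groth.Agent.EtFound.StrictMap
import Mathlib.RingTheory.Unramified.Finite

/-!
# Higher direct images from a point
-/

set_option autoImplicit false
set_option linter.style.haveILetI false
set_option backward.isDefEq.respectTransparency false
set_option backward.isDefEq.respectTransparency.types false
set_option maxHeartbeats 1000000

universe u

open CategoryTheory CategoryTheory.Limits AlgebraicGeometry Opposite CategoryTheory.Abelian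
open scoped TensorProduct

namespace Groth.Agent.CdFin

open Groth.Agent.EtFound Groth.Agent.GalCd13

/-- Base change to an ind-étale algebra is integral over a field. -/
theorem isIntegral_includeLeft_of_isIndEtale (A B κ : Type u) [CommRing A] [CommRing B] [Field κ] [Algebra A B]
    [Algebra A κ] (h : EtPBC.IsIndEtale A B) :
    (Algebra.TensorProduct.includeLeftRingHom : κ →+* κ ⊗[A] B).IsIntegral := by
  obtain ⟨S, hS, ⟨e⟩⟩ := IndEtLib.exists_sys h
  intro z
  show IsIntegral κ z
  induction z using TensorProduct.induction_on with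
  | zero => exact isIntegral_zero
  | add a b ha hb => exact ha.add hb
  | tmul a r =>
    obtain ⟨j, y, hy⟩ := S.surj (e.symm r)
    haveI := hS j
    haveI : Module.Finite κ (κ ⊗[A] S.A j) := Algebra.FormallyUnramified.finite_of_free κ (κ ⊗[A] S.A j)
    let m : κ ⊗[A] S.A j →ₐ[κ] κ ⊗[A] B :=
      Algebra.TensorProduct.map (AlgHom.id κ κ) (e.toAlgHom.comp (S.ι j))
    have he : e (S.ι j y) = r := by rw [hy, AlgEquiv.apply_symm_apply]
    have := (Algebra.IsIntegral.isIntegral (R := κ) (a ⊗ₜ[A] y)).map m
    rwa [show m (a ⊗ₜ[A] y) = a ⊗ₜ[A] r by rw [← he]; rfl] at this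

/-- Base change of the fibre along a separably closed algebraic extension of a subfield of the local ring. -/
theorem cohDimLE_tensor_of_subfield {k0 M O κ R : Type u} [Field k0] [Field M] [IsSepClosed M] [Algebra k0 M]
    [Algebra.IsAlgebraic k0 M] [CommRing O] [Field κ] [CommRing R] [Algebra O κ] [Algebra O R] [Algebra k0 κ]
    (Ψ : k0 →+* O) (hκ : ∀ c, algebraMap k0 κ c = algebraMap O κ (Ψ c)) (g : M →+* R)
    (hg : ∀ c, g (algebraMap k0 M c) = algebraMap O R (Ψ c)) (hR : EtPBC.IsIndEtale O R) (n : ℕ)
    (hn : Algebra.trdeg k0 κ ≤ n) : EtCoh.CohDimLE (Spec (CommRingCat.of (κ ⊗[O] R))) n := by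
  let il : κ →+* κ ⊗[O] R := Algebra.TensorProduct.includeLeftRingHom
  let iL : κ →ₐ[k0] κ ⊗[O] R := { il with commutes' := fun _ => rfl }
  let iR : M →ₐ[k0] κ ⊗[O] R :=
    { ((Algebra.TensorProduct.includeRight (R := O) (A := κ) (B := R)).toRingHom).comp g with
      commutes' := fun c => by
        show (1 : κ) ⊗ₜ[O] g (algebraMap k0 M c) = (algebraMap k0 κ c) ⊗ₜ[O] (1 : R)
        rw [hg, hκ, Algebra.algebraMap_eq_smul_one, Algebra.algebraMap_eq_smul_one, TensorProduct.tmul_smul,
          TensorProduct.smul_tmul'] }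
  let ψ : κ ⊗[k0] M →ₐ[k0] κ ⊗[O] R := Algebra.TensorProduct.lift iL iR fun _ _ => Commute.all _ _
  have hψ : ψ.toRingHom.IsIntegral := by
    refine RingHom.IsIntegral.tower_top (Algebra.TensorProduct.includeLeftRingHom : κ →+* κ ⊗[k0] M) _ ?_
    have he : ψ.toRingHom.comp (Algebra.TensorProduct.includeLeftRingHom : κ →+* κ ⊗[k0] M) = il :=
      RingHom.ext fun a => by
        show ψ (a ⊗ₜ 1) = il a
        rw [Algebra.TensorProduct.lift_tmul, map_one, mul_one]
        rfl
    rw [he]
    exact isIntegral_includeLeft_of_isIndEtale O R κ hR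
  intro F hF q hq
  exact cohDimLE_of_ringHom ψ.toRingHom hψ (cohDimLE_tensor n k0 κ M 0 (cohDimLE_sepClosed M) hn) F hF q
    (by omega)

/-- The fibre of a point over a strict henselization has small cohomological dimension. -/
theorem cohDimLE_tensor_strictHenselization {k : Type u} [Field k] {O κ R : Type u} [CommRing O] [IsLocalRing O]
    [Field κ] [CommRing R] [IsLocalRing R] [Algebra k O] [Algebra k κ] [Algebra O κ] [IsScalarTower k O κ]
    [Algebra O R] [IsLocalHom (algebraMap O R)] [Hensel.IsStrictHenselization O R] (m n : ℕ) (t : Fin m → O)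
    (ht : AlgebraicIndependent k fun i => IsLocalRing.residue O (t i))
    (hn : Algebra.trdeg k κ ≤ (n + m : ℕ)) :
    EtCoh.CohDimLE (Spec (CommRingCat.of (κ ⊗[O] R))) n := by
  classical
  let P := MvPolynomial (Fin m) k
  let k0 := FractionRing P
  let Φ : P →ₐ[k] O := MvPolynomial.aeval t
  have hΦ : ∀ p : nonZeroDivisors P, IsUnit (Φ p) := fun p => by
    refine IsLocalRing.residue_ne_zero_iff_isUnit _ |>.1 fun h0 => nonZeroDivisors.ne_zero p.2 (ht ?_)
    rw [map_zero, ← h0]
    exact (DFunLike.congr_fun (MvPolynomial.comp_aeval (R := k) t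
      (IsScalarTower.toAlgHom k O (IsLocalRing.ResidueField O))) (p : P)).symm
  let Ψ : k0 →+* O := IsLocalization.lift (M := nonZeroDivisors P) (S := k0) (g := Φ.toRingHom) hΦ
  letI : Algebra k0 O := Ψ.toAlgebra
  letI : Algebra k0 κ := ((algebraMap O κ).comp Ψ).toAlgebra
  haveI : IsScalarTower k0 O κ := IsScalarTower.of_algebraMap_eq fun _ => rfl
  haveI : IsScalarTower k k0 κ := IsScalarTower.of_algebraMap_eq fun c => by
    show algebraMap k κ c = algebraMap O κ (Ψ (algebraMap k k0 c))
    rw [IsScalarTower.algebraMap_apply k P k0, IsLocalization.lift_eq, AlgHom.toRingHom_eq_coe, RingHom.coe_coe,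
      AlgHom.commutes, ← IsScalarTower.algebraMap_apply k O κ]
  have htr : Algebra.trdeg k0 κ ≤ n := by
    have h1 : (m : Cardinal.{u}) ≤ Algebra.trdeg k k0 := by
      have := trdeg_le_of_injective (IsScalarTower.toAlgHom k P k0) (IsFractionRing.injective P k0)
      simpa [P, MvPolynomial.trdeg_of_isDomain] using this
    refine (Cardinal.add_le_add_iff_of_lt_aleph0 (Cardinal.natCast_lt_aleph0 (n := m))).1 ?_
    calc Algebra.trdeg k0 κ + m ≤ Algebra.trdeg k0 κ + Algebra.trdeg k k0 := by gcongr
      _ = Algebra.trdeg k κ := by rw [add_comm, trdeg_add_eq k k0 (A := κ)]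
      _ ≤ _ := by exact_mod_cast hn
  haveI : IsLocalHom Ψ := ⟨fun a ha => isUnit_iff_ne_zero.2 fun h0 => not_isUnit_zero (by rwa [h0, map_zero] at ha)⟩
  obtain ⟨R₀, _, _, _, _, hR₀'⟩ := S0537.result k0
  haveI := hR₀'
  have hmax : IsLocalRing.maximalIdeal R₀ = ⊥ := by
    rw [← Hensel.map_maximalIdeal_of_isStrictHenselization (R := k0) (S := R₀),
      IsLocalRing.isField_iff_maximalIdeal_eq.1 (Field.toIsField k0), Ideal.map_bot]
  letI : Field R₀ := (IsLocalRing.isField_iff_maximalIdeal_eq.2 hmax).toField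
  haveI : IsSepClosed (IsLocalRing.ResidueField R₀) :=
    (Hensel.IsStrictHenselization.isSepClosure (R := k0) (S := R₀)).sep_closed
  let e₀ : R₀ ≃+* IsLocalRing.ResidueField R₀ :=
    RingEquiv.ofBijective _ ⟨(IsLocalRing.residue R₀).injective, IsLocalRing.residue_surjective⟩
  haveI : IsSepClosed R₀ := Hensel.isSepClosed_of_ringEquiv e₀.symm
  haveI : Algebra.IsAlgebraic k0 R₀ := ⟨fun z => by
    haveI : Algebra.IsSeparable (IsLocalRing.ResidueField k0) (IsLocalRing.ResidueField R₀) :=
      (Hensel.IsStrictHenselization.isSepClosure (R := k0) (S := R₀)).separable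
    refine IsIntegral.isAlgebraic ?_
    obtain ⟨Q, hQ, hQz⟩ := Algebra.IsIntegral.isIntegral (R := IsLocalRing.ResidueField k0) (IsLocalRing.residue R₀ z)
    obtain ⟨Q', hQ', -, hQm⟩ := Polynomial.lifts_and_natDegree_eq_and_monic
      ((Polynomial.lifts_iff_coeff_lifts Q).2 fun n => IsLocalRing.residue_surjective (Q.coeff n)) hQ
    refine ⟨Q', hQm, (IsLocalRing.residue R₀).injective ?_⟩
    rw [map_zero, ← hQz, Polynomial.hom_eval₂, ← hQ', Polynomial.eval₂_map]
    rfl⟩
  obtain ⟨g, -, hg⟩ := exists_strictMap R₀ R Ψ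
  exact cohDimLE_tensor_of_subfield (M := R₀) Ψ (fun _ => rfl) g (fun c => RingHom.congr_fun hg c)
    (S12237.result O R) n htr

variable {k : Type u} [Field k] {X : Scheme.{u}} (f : X ⟶ Spec (CommRingCat.of k)) [LocallyOfFiniteType f]

theorem isEmpty_pullback_of_not_specializes {η x : X} (h : ¬ η ⤳ x) (R : Type u) [CommRing R]
    [Algebra (X.presheaf.stalk x) R] :
    IsEmpty (pullback (X.fromSpecResidueField η) (Hens2.specOf X x R) :) := by
  refine ⟨fun z => h ?_⟩
  have e := congrArg (fun φ : _ ⟶ X => φ z) (pullback.condition (f := X.fromSpecResidueField η) (g := Hens2.specOf X x R))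
  have h1 : X.fromSpecResidueField η (pullback.fst (X.fromSpecResidueField η) (Hens2.specOf X x R) z) = η := by
    have : X.fromSpecResidueField η (pullback.fst (X.fromSpecResidueField η) (Hens2.specOf X x R) z) ∈
        Set.range (X.fromSpecResidueField η) := ⟨_, rfl⟩
    rwa [Scheme.range_fromSpecResidueField] at this
  have h2 : (pullback.snd (X.fromSpecResidueField η) (Hens2.specOf X x R) ≫ Hens2.specOf X x R) z ∈
      Set.range (X.fromSpecStalk x) := ⟨_, rfl⟩
  rw [Scheme.range_fromSpecStalk] at h2
  simp only [Scheme.Hom.comp_apply] at e h2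
  rw [← e, h1] at h2
  exact h2

include f in
theorem subsingleton_H_point_fibre {η x : X} (R : Type u) [CommRing R] [IsLocalRing R]
    [Algebra (X.presheaf.stalk x) R] [IsLocalHom (algebraMap (X.presheaf.stalk x) R)]
    [Hensel.IsStrictHenselization (X.presheaf.stalk x) R] {b : ℕ}
    (hb : η ⤳ x → VarDim.deg f η < b + VarDim.deg f x)
    (G : EtCoh.Ab (pullback (X.fromSpecResidueField η) (Hens2.specOf X x R))) (hG : EtCoh.IsTorsion G) :
    Subsingleton (EtCoh.H (pullback (X.fromSpecResidueField η) (Hens2.specOf X x R)) G b) := by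
  by_cases h : η ⤳ x
  · let c : k →+* X.presheaf.stalk x := (X.presheaf.germ ⊤ x trivial).hom.comp (VarDim.baseMap f)
    let φ : X.presheaf.stalk x →+* X.residueField η := Cyc.specMap x η h
    letI : Algebra k (X.presheaf.stalk x) := c.toAlgebra
    letI : Algebra k (X.residueField η) := (VarDim.resHom f η).toAlgebra
    letI : Algebra (X.presheaf.stalk x) (X.residueField η) := φ.toAlgebra
    haveI : IsScalarTower k (X.presheaf.stalk x) (X.residueField η) := IsScalarTower.of_algebraMap_eq fun a => by
      show VarDim.resHom f η a = φ (c a)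
      show (X.residue η) ((X.presheaf.germ ⊤ η trivial) (VarDim.baseMap f a)) =
        (X.residue η) ((X.presheaf.stalkSpecializes h) ((X.presheaf.germ ⊤ x trivial) (VarDim.baseMap f a)))
      rw [X.presheaf.germ_stalkSpecializes_apply]
    have hdeg : (VarDim.deg f x : Cardinal.{u}) = Algebra.trdeg k (IsLocalRing.ResidueField (X.presheaf.stalk x)) :=
      VarDim.deg_eq_tdeg f x
    obtain ⟨s, hs⟩ := exists_isTranscendenceBasis k (IsLocalRing.ResidueField (X.presheaf.stalk x))
    have hcard : Cardinal.mk s = (VarDim.deg f x : Cardinal.{u}) := hs.cardinalMk_eq_trdeg.trans hdeg.symm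
    obtain ⟨es⟩ := Cardinal.mk_eq_nat_iff.1 hcard
    choose t ht using fun i => IsLocalRing.residue_surjective (R := X.presheaf.stalk x) (es.symm i).1
    have hti : AlgebraicIndependent k fun i => IsLocalRing.residue (X.presheaf.stalk x) (t i) := by
      simp only [ht]
      exact hs.1.comp es.symm es.symm.injective
    have hlt := hb h
    have hle := VarDim.deg_le_of_specializes f h
    have hκ : Algebra.trdeg k (X.residueField η) ≤ (((VarDim.deg f η - VarDim.deg f x) + VarDim.deg f x : ℕ)) := by
      rw [Nat.sub_add_cancel hle]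
      exact (VarDim.deg_eq_tdeg f η).ge
    have hcd := cohDimLE_tensor_strictHenselization (O := X.presheaf.stalk x) (κ := X.residueField η) (R := R)
      (VarDim.deg f x) (VarDim.deg f η - VarDim.deg f x) t hti hκ
    let a := algebraMap (X.presheaf.stalk x) R
    have hj : Spec.map (CommRingCat.ofHom φ) ≫ X.fromSpecStalk x = X.fromSpecResidueField η := by
      show Spec.map (X.presheaf.stalkSpecializes h ≫ X.residue η) ≫ _ = _
      rw [Spec.map_comp, Category.assoc, Scheme.SpecMap_stalkSpecializes_fromSpecStalk]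
      rfl
    have hP : IsPullback (pullback.fst (Spec.map (CommRingCat.ofHom φ)) (Spec.map (CommRingCat.ofHom a)))
        (pullback.snd _ _) (Spec.map (CommRingCat.ofHom φ) ≫ X.fromSpecStalk x)
        (Spec.map (CommRingCat.ofHom a) ≫ X.fromSpecStalk x) :=
      IsPullback.of_isLimit (pullbackIsPullbackOfCompMono _ _ (X.fromSpecStalk x))
    rw [hj] at hP
    let e : pullback (X.fromSpecResidueField η) (Hens2.specOf X x R) ⟶
        Spec (CommRingCat.of (X.residueField η ⊗[X.presheaf.stalk x] R)) :=
      hP.isoPullback.inv ≫ (pullbackSpecIso (X.presheaf.stalk x) (X.residueField η) R).hom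
    haveI : IsIso e := inferInstance
    exact cohDimLE_of_integral e hcd G hG b (by omega)
  · haveI := isEmpty_pullback_of_not_specializes h R
    have hz : IsZero G := (IsZero.iff_id_eq_zero _).2 (eq_of_stalks _ _ fun Ω _ _ ξ =>
      isEmptyElim (ξ.base (default : Spec (CommRingCat.of Ω))))
    refine subsingleton_of_forall_eq 0 fun z => ?_
    rw [← Ext.comp_mk₀_id z, (IsZero.iff_id_eq_zero G).1 hz, Ext.mk₀_zero, Ext.comp_zero]

include f in
/-- Higher direct images from a point lose dimension. -/
theorem isZero_stalk_Rpush_point (η : X) {F : EtCoh.Ab (Spec (X.residueField η))} (hF : EtCoh.IsTorsion F) (b : ℕ)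
    {Ω : Type u} [Field Ω] [IsSepClosed Ω] (ξ : Spec (CommRingCat.of Ω) ⟶ X)
    (hb : η ⤳ ξ.base (default : Spec (CommRingCat.of Ω)) →
      VarDim.deg f η < b + VarDim.deg f (ξ.base (default : Spec (CommRingCat.of Ω)))) :
    IsZero ((EtCoh.stalk ξ).obj ((EtCoh.Rpush (X.fromSpecResidueField η) b).obj F)) := by
  generalize hx : ξ.base (default : Spec (CommRingCat.of Ω)) = x at hb
  obtain ⟨R, _, _, _, _, hR'⟩ := S0537.result (X.presheaf.stalk x)
  haveI := hR'
  haveI : IsSepClosed (IsLocalRing.ResidueField R) :=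
    (Hensel.IsStrictHenselization.isSepClosure (R := X.presheaf.stalk x) (S := R)).sep_closed
  haveI : IsLocallyNoetherian X := LocallyOfFiniteType.isLocallyNoetherian f
  haveI : QuasiCompact (X.fromSpecResidueField η) :=
    (quasiCompact_iff _).2 fun U _ _ => (Set.toFinite _).isCompact
  haveI : QuasiSeparated (X.fromSpecResidueField η) := inferInstance
  obtain ⟨e⟩ := S6186.result (X.fromSpecResidueField η) x R b
  have h1 : Subsingleton ((EtCoh.stalk (Hens2.geomPt X x R)).obj ((EtCoh.Rpush (X.fromSpecResidueField η) b).obj F)) := by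
    refine @Equiv.subsingleton _ _ (e.app F).addCommGroupIsoToAddEquiv.toEquiv ?_
    exact subsingleton_H_point_fibre f R hb _ ((BCCrit13.isLTorsion_univ_iff _).1
      (isLTorsion_pull (pullback.fst (X.fromSpecResidueField η) (Hens2.specOf X x R)) Set.univ
        ((BCCrit13.isLTorsion_univ_iff _).2 hF)))
  have hpt : ξ.base (default : Spec (CommRingCat.of Ω)) =
      (Hens2.geomPt X x R).base (default : Spec (CommRingCat.of (IsLocalRing.ResidueField R))) := by
    rw [hx]
    symm
    show (Spec.map (CommRingCat.ofHom (IsLocalRing.residue R)) ≫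
      Spec.map (CommRingCat.ofHom (algebraMap (X.presheaf.stalk x) R)) ≫ X.fromSpecStalk x) _ = x
    rw [Scheme.Hom.comp_apply, Scheme.Hom.comp_apply]
    have hc : ∀ z, (Spec.map (CommRingCat.ofHom (algebraMap (X.presheaf.stalk x) R)))
        ((Spec.map (CommRingCat.ofHom (IsLocalRing.residue R))) z) = IsLocalRing.closedPoint (X.presheaf.stalk x) := by
      intro z
      have : Spec.map (CommRingCat.ofHom (IsLocalRing.residue R)) z = IsLocalRing.closedPoint R := by
        have := IsLocalRing.comap_closedPoint (IsLocalRing.residue R)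
        rw [Subsingleton.elim z (IsLocalRing.closedPoint (IsLocalRing.ResidueField R))]
        exact this
      rw [this]
      exact IsLocalRing.comap_closedPoint (algebraMap (X.presheaf.stalk x) R)
    rw [hc]
    exact Scheme.fromSpecStalk_closedPoint
  obtain ⟨e₁⟩ := nonempty_stalk_equiv ((EtCoh.Rpush (X.fromSpecResidueField η) b).obj F) ξ (Hens2.geomPt X x R) hpt
  exact @AddCommGrpCat.isZero_of_subsingleton _ (@Equiv.subsingleton _ _ e₁ h1)

end Groth.Agent.CdFin
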