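import Groth.Agent.CdFin.Devissage
import Groth.Agent.S0156
import Groth.Agent.Filtr13.Main
import Groth.Agent.FibDim.BaseChange
import Groth.Agent.FibDim.Comp

/-!
# Vanishing of higher direct images above twice the fibre dimension
-/

set_option autoImplicit false
set_option linter.style.haveILetI false
set_option backward.isDefEq.respectTransparency false
set_option backward.isDefEq.respectTransparency.types false
set_option maxHeartbeats 1000000

universe u

open CategoryTheory CategoryTheory.Limits AlgebraicGeometry Opposite CategoryTheory.Abelian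

namespace Groth.Agent.CdFin

open Groth.Agent.EtFound

theorem isTorsion_extZero {U X : Scheme.{u}} (j : U ⟶ X) [IsOpenImmersion j] [EtShriek.JCont j]
    [AlgebraicGeometry.Etale j] {G : EtCoh.Ab U} (hG : EtCoh.IsTorsion G) :
    EtCoh.IsTorsion ((EtShriek.extZero j).obj G) := by
  refine (BCCrit13.isTorsion_iff_stalks _).2 fun Ω _ _ ξ t => ?_
  by_cases hξ : ξ.base (default : Spec (CommRingCat.of Ω)) ∈ Set.range j.base
  · obtain ⟨K, _, _, z, e, he⟩ := exists_lift_extension j ξ hξ
    let i₁ := (stalkExtIso AddCommGrpCat.{u + 1} ξ e).app ((EtShriek.extZero j).obj G)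
    haveI h1 := isIso_stalk_unit j (A := AddCommGrpCat.{u + 1}) G z
    haveI : IsIso (restrStalkMap j z ((EtShriek.extZero j).obj G)) :=
      (ConcreteCategory.isIso_iff_bijective _).2 (restrStalkMap_bijective j z _)
    let i₂ : (EtCoh.stalk z).obj G ≅ (EtCoh.stalk (e ≫ ξ)).obj ((EtShriek.extZero j).obj G) :=
      ((@asIso _ _ _ _ _ h1) ≪≫ asIso (restrStalkMap j z ((EtShriek.extZero j).obj G))) ≪≫
        eqToIso (congrArg (fun w => (EtCoh.stalk w).obj ((EtShriek.extZero j).obj G)) he.symm)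
    let w : (EtCoh.stalk z).obj G ≅ (EtCoh.stalk ξ).obj ((EtShriek.extZero j).obj G) := i₂ ≪≫ i₁.symm
    obtain ⟨m, hm, h⟩ := (BCCrit13.isTorsion_iff_stalks G).1 hG K z (w.inv t)
    refine ⟨m, hm, w.addCommGroupIsoToAddEquiv.symm.injective ?_⟩
    rw [map_zero, map_nsmul]
    exact h
  · exact ⟨1, one_pos, @Subsingleton.elim _
      (AddCommGrpCat.subsingleton_of_isZero (isZero_stalk_extZero j ξ hξ G)) _ _⟩

/-- Torsion sheaves supported where the fibres have dimension `≤ d` have no higher direct image above `2 d`. -/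
theorem isZero_Rpush_of_supp {P S : Scheme.{u}} (p : P ⟶ S) [IsProper p] [EtCoh.BCCont p] (d : ℕ) (G : EtCoh.Ab P)
    (hG : EtCoh.IsTorsion G) (hs : ∀ x ∈ EtPBC.supp G, FibDim.rd p x ≤ d) (i : ℕ) (hi : 2 * d < i) :
    IsZero ((EtCoh.Rpush p i).obj G) := by
  refine (isZero_iff_stalks _).2 fun Ω _ _ ξ => ?_
  obtain ⟨e⟩ := S0156.result p ξ G hG i
  let q := pullback.snd p ξ
  haveI : CompactSpace ↥(pullback p ξ) := QuasiCompact.compactSpace_of_compactSpace q
  haveI h : Subsingleton (EtCoh.H (pullback p ξ) ((EtCoh.pull (pullback.fst p ξ)).obj G) i) := by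
    refine subsingleton_H_of_supp q ((BCCrit13.isLTorsion_univ_iff _).1
      (isLTorsion_pull (pullback.fst p ξ) Set.univ ((BCCrit13.isLTorsion_univ_iff _).2 hG))) ?_ hi
    rintro z ⟨K, _, _, z', hr, hne⟩
    have hz : z'.base (default : Spec (CommRingCat.of K)) = z := Set.mem_singleton_iff.1 (hr ▸ ⟨_, rfl⟩)
    have hx : pullback.fst p ξ z ∈ EtPBC.supp G := by
      refine ⟨K, inferInstance, inferInstance, z' ≫ pullback.fst p ξ, ?_, fun h0 => hne ?_⟩
      · rw [range_point, Scheme.Hom.comp_apply, hz]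
      · exact h0.of_iso ((sheafFiberPullIso (A := AddCommGrpCat.{u + 1}) (pullback.fst p ξ) z').app G)
    have h1 : (VarDim.deg q z : Cardinal.{u}) = (FibDim.rd q z : ℕ) := by
      rw [FibDim.rd_eq_rdeg, VarDim.deg_eq_tdeg, VarDim.tdeg_eq_rdeg]
    have h1' : VarDim.deg q z = FibDim.rd q z := Nat.cast_injective h1
    rw [h1']
    exact (FibDim.rd_baseChange_le (IsPullback.of_hasPullback p ξ) z).trans (hs _ hx)
  exact (@AddCommGrpCat.isZero_of_subsingleton _ h).of_iso e

end Groth.Agent.CdFin
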