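import Groth.Agent.CdFin.Devissage
import Groth.Agent.GalCd13.TrdegPrimary
import Groth.Agent.FibDim.BaseChange
import Groth.Agent.FibDim.Comp
import Groth.Agent.FibDim.Minimal

/-!
# Cohomological dimension of schemes of finite type over a field
-/

set_option autoImplicit false
set_option linter.style.haveILetI false
set_option backward.isDefEq.respectTransparency false
set_option backward.isDefEq.respectTransparency.types false
set_option maxHeartbeats 1000000

universe u

open CategoryTheory CategoryTheory.Limits AlgebraicGeometry Opposite CategoryTheory.Abelian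

namespace Groth.Agent.CdFin

open Groth.Agent.EtFound Groth.Agent.GalCd13 Groth.Agent.EtTrace

variable {K : Type u} [Field K]

theorem rd_eq_deg {T : Scheme.{u}} (q : T ⟶ Spec (CommRingCat.of K)) [LocallyOfFiniteType q] (z : T) :
    FibDim.rd q z = VarDim.deg q z := by
  have h1 : (VarDim.deg q z : Cardinal.{u}) = (FibDim.rd q z : ℕ) := by
    rw [FibDim.rd_eq_rdeg, VarDim.deg_eq_tdeg, VarDim.tdeg_eq_rdeg]
  exact (Nat.cast_injective h1).symm

theorem deg_le_of_dim {T : Scheme.{u}} (q : T ⟶ Spec (CommRingCat.of K)) [LocallyOfFiniteType q] {n : ℕ}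
    (hn : topologicalKrullDim T ≤ n) (z : T) : VarDim.deg q z ≤ n := by
  rw [VarDim.topologicalKrullDim_eq_iSup_deg q] at hn
  exact_mod_cast (le_iSup (fun x : T => ((VarDim.deg q x : ℕ∞) : WithBot ℕ∞)) z).trans hn

/-- Higher direct images to a field vanish above twice the dimension. -/
theorem isZero_Rpush_to_field {X : Scheme.{u}} (f : X ⟶ Spec (CommRingCat.of K)) [LocallyOfFiniteType f]
    [QuasiCompact f] {n : ℕ} (hn : topologicalKrullDim X ≤ n) {F : EtCoh.Ab X} (hF : EtCoh.IsTorsion F) {b : ℕ}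
    (hb : 2 * n < b) : IsZero ((EtCoh.Rpush f b).obj F) := by
  haveI : IsLocallyNoetherian X := LocallyOfFiniteType.isLocallyNoetherian f
  haveI : QuasiSeparated f := inferInstance
  let S := Spec (CommRingCat.of K)
  let y : S := (default : Spec (CommRingCat.of K))
  obtain ⟨R, _, _, _, _, hR'⟩ := S0537.result (S.presheaf.stalk y)
  haveI := hR'
  haveI : IsSepClosed (IsLocalRing.ResidueField R) :=
    (Hensel.IsStrictHenselization.isSepClosure (R := S.presheaf.stalk y) (S := R)).sep_closed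
  let c : CommRingCat.of K ⟶ S.presheaf.stalk y :=
    (Scheme.ΓSpecIso (CommRingCat.of K)).inv ≫ S.presheaf.germ ⊤ y trivial
  have hc : Function.Surjective c.hom := fun z => by
    obtain ⟨U, hU, s, rfl⟩ := TopCat.Presheaf.exists_germ_eq S.presheaf z
    obtain rfl : U = ⊤ := eq_top_iff.2 fun w _ =>
      (@Subsingleton.elim (Spec (CommRingCat.of K)) (inferInstanceAs (Subsingleton (PrimeSpectrum K))) y w) ▸ hU
    obtain ⟨t, rfl⟩ := (ConcreteCategory.bijective_of_isIso (Scheme.ΓSpecIso (CommRingCat.of K)).inv).2 s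
    exact ⟨t, rfl⟩
  have hfld : IsField (S.presheaf.stalk y) := by
    refine IsLocalRing.isField_iff_maximalIdeal_eq.2 (le_bot_iff.1 fun z hz => ?_)
    obtain ⟨t, rfl⟩ := hc z
    by_cases ht : t = 0
    · rw [ht, map_zero]; exact zero_mem _
    · exact absurd ((isUnit_iff_ne_zero.2 ht).map c.hom) ((IsLocalRing.mem_maximalIdeal _).1 hz)
  have hmax : IsLocalRing.maximalIdeal R = ⊥ := by
    rw [← Hensel.map_maximalIdeal_of_isStrictHenselization (R := S.presheaf.stalk y) (S := R),
      IsLocalRing.isField_iff_maximalIdeal_eq.1 hfld, Ideal.map_bot]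
  letI : Field R := (IsLocalRing.isField_iff_maximalIdeal_eq.2 hmax).toField
  let eR : R ≃+* IsLocalRing.ResidueField R :=
    RingEquiv.ofBijective _ ⟨(IsLocalRing.residue R).injective, IsLocalRing.residue_surjective⟩
  haveI : IsSepClosed R := Hensel.isSepClosed_of_ringEquiv eR.symm
  obtain ⟨e⟩ := S6186.result f y R b
  let q := pullback.snd f (Hens2.specOf S y R)
  haveI : LocallyOfFiniteType q := MorphismProperty.pullback_snd _ _ inferInstance
  haveI : CompactSpace ↥(pullback f (Hens2.specOf S y R)) := QuasiCompact.compactSpace_of_compactSpace q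
  have h1 : Subsingleton ((EtCoh.stalk (Hens2.geomPt S y R)).obj ((EtCoh.Rpush f b).obj F)) := by
    refine @Equiv.subsingleton _ _ (e.app F).addCommGroupIsoToAddEquiv.toEquiv ?_
    refine subsingleton_H_of_supp (k := R) q ((BCCrit13.isLTorsion_univ_iff _).1
      (isLTorsion_pull (pullback.fst f (Hens2.specOf S y R)) Set.univ ((BCCrit13.isLTorsion_univ_iff _).2 hF)))
      (fun z _ => ?_) hb
    rw [← rd_eq_deg]
    refine (FibDim.rd_baseChange_le (IsPullback.of_hasPullback f (Hens2.specOf S y R)) z).trans ?_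
    rw [rd_eq_deg]
    exact deg_le_of_dim f hn _
  refine (IsZero.iff_id_eq_zero _).2 (eq_of_stalks _ _ fun Ω _ _ ξ => AddCommGrpCat.ext fun z => ?_)
  obtain ⟨e₁⟩ := nonempty_stalk_equiv ((EtCoh.Rpush f b).obj F) ξ (Hens2.geomPt S y R)
    (@Subsingleton.elim (Spec (CommRingCat.of K)) (inferInstanceAs (Subsingleton (PrimeSpectrum K))) _ _)
  exact @Subsingleton.elim _ (@Equiv.subsingleton _ _ e₁ h1) _ _

/-- `cd (X) ≤ 2 dim X + cd (K)`. -/
theorem cohDimLE_over_field {X : Scheme.{u}} (f : X ⟶ Spec (CommRingCat.of K)) [LocallyOfFiniteType f]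
    [QuasiCompact f] {n : ℕ} (hn : topologicalKrullDim X ≤ n) {e : ℕ}
    (he : EtCoh.CohDimLE (Spec (CommRingCat.of K)) e) : EtCoh.CohDimLE X (2 * n + e) := by
  intro F hF q hq
  haveI : IsLocallyNoetherian X := LocallyOfFiniteType.isLocallyNoetherian f
  refine subsingleton_H_of_Rpush f F q fun a b hab => ?_
  by_cases hb : 2 * n < b
  · exact subsingleton_H_of_isZero (isZero_Rpush_to_field f hn hF hb) a
  · exact he _ (isTorsion_Rpush f hF b) a (by omega)

/-- `cd_ℓ (X) ≤ 2 dim X + cd_ℓ (K)`. -/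
theorem cohDimLEAt_over_field {X : Scheme.{u}} (f : X ⟶ Spec (CommRingCat.of K)) [LocallyOfFiniteType f]
    [QuasiCompact f] {n : ℕ} (hn : topologicalKrullDim X ≤ n) {ℓ : ℕ} (hℓ : ℓ.Prime) {e : ℕ}
    (he : Dix.CohDimLEAt (Spec (CommRingCat.of K)) ℓ e) : Dix.CohDimLEAt X ℓ (2 * n + e) := by
  haveI : IsLocallyNoetherian X := LocallyOfFiniteType.isLocallyNoetherian f
  haveI : CompactSpace X := QuasiCompact.compactSpace_of_compactSpace f
  haveI : QuasiSeparatedSpace X := inferInstance
  refine cohDimLEAt_of_killedVanish hℓ fun G a ha q hq => ?_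
  haveI : (EtCoh.push f).Additive := (EtCoh.pullPushAdj f).right_adjoint_additive
  refine subsingleton_H_of_Rpush f G q fun i b hab => ?_
  by_cases hb : 2 * n < b
  · exact subsingleton_H_of_isZero (isZero_Rpush_to_field f hn (isTorsion_of_nsmul_id (Nat.pow_pos hℓ.pos) ha) hb) i
  · exact killedVanish_of_cohDimLEAt he _ a (nsmul_map (EtCoh.Rpush f b) ha) i (by omega)

/-- Schemes of finite type over a field have finite dimension. -/
theorem exists_dim_le {X : Scheme.{u}} (f : X ⟶ Spec (CommRingCat.of K)) [LocallyOfFiniteType f] [QuasiCompact f] :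
    ∃ n : ℕ, topologicalKrullDim X ≤ n := by
  haveI : IsLocallyNoetherian X := LocallyOfFiniteType.isLocallyNoetherian f
  haveI : CompactSpace X := QuasiCompact.compactSpace_of_compactSpace f
  haveI : IsNoetherian X := ⟨⟩
  obtain ⟨S, hSf, hSc, hSi, hSu⟩ :=
    TopologicalSpace.NoetherianSpace.exists_finite_set_isClosed_irreducible (isClosed_univ (X := X))
  classical
  have hb : ∃ n : ℕ, ∀ t ∈ S, ∀ x ∈ t, VarDim.deg f x ≤ n := by
    have h : ∀ t ∈ S, ∃ n : ℕ, ∀ x ∈ t, VarDim.deg f x ≤ n := fun t ht => by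
      have hg := (hSi t ht).isGenericPoint_genericPoint (hSc t ht)
      exact ⟨_, fun x hx => VarDim.deg_le_of_specializes f (hg.specializes hx)⟩
    choose g hg using h
    exact ⟨hSf.toFinset.attach.sup fun t => g t.1 (hSf.mem_toFinset.1 t.2), fun t ht x hx =>
      (hg t ht x hx).trans (Finset.le_sup (f := fun t : hSf.toFinset => g t.1 (hSf.mem_toFinset.1 t.2))
        (Finset.mem_attach _ ⟨t, hSf.mem_toFinset.2 ht⟩))⟩
  obtain ⟨n, hn⟩ := hb
  refine ⟨n, ?_⟩
  rw [VarDim.topologicalKrullDim_eq_iSup_deg f]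
  refine iSup_le fun x => ?_
  obtain ⟨t, ht, hxt⟩ := Set.mem_sUnion.1 (hSu.le (Set.mem_univ x))
  have h1 : (VarDim.deg f x : ℕ∞) ≤ (n : ℕ∞) := Nat.cast_le.2 (hn t ht x hxt)
  exact WithBot.coe_le_coe.2 h1

end Groth.Agent.CdFin
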