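import Groth.Agent.GalCd13.LerayVanish

/-!
# Vanishing in the zeroth direct image
-/

set_option autoImplicit false
set_option linter.style.haveILetI false
set_option backward.isDefEq.respectTransparency false
set_option backward.isDefEq.respectTransparency.types false
set_option maxHeartbeats 1000000

universe w v u u₁

open CategoryTheory CategoryTheory.Limits CategoryTheory.Abelian

namespace Groth.Agent.CdFin

open Groth.Agent.EtFound

section Abstract

variable {A : Type u} [Category.{v} A] [Abelian A] [HasExt.{w} A] [EnoughInjectives A]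
  {B : Type*} [Category* B] [Abelian B] [HasExt.{w} B] [EnoughInjectives B]
  {L : B ⥤ A} {R : A ⥤ B} (adj : L ⊣ R) [L.Additive] [PreservesFiniteLimits L] [PreservesFiniteColimits L]
  [R.Additive] [PreservesFiniteLimits R]

omit [EnoughInjectives B] in
include adj in
/-- If `Ext^(p+1)(L P, G)` vanishes and all `Ext^a(P, R^(b+1) G)` with `a + (b+1) = p` vanish then so does
`Ext^(p+1)(P, R G)`. -/
theorem subsingleton_ext_obj (P : B) : ∀ (p : ℕ) (G : A),
    (∀ a b : ℕ, a + (b + 1) = p → Subsingleton (Ext P ((R.rightDerived (b + 1)).obj G) a)) →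
      Subsingleton (Ext (L.obj P) G (p + 1)) → Subsingleton (Ext P (R.obj G) (p + 1)) := by
  intro p
  induction p with
  | zero =>
    intro G _ hG
    refine subsingleton_of_forall_eq 0 fun y => ?_
    let S := ShortComplex.mk (Injective.ι G) (cokernel.π (Injective.ι G)) (cokernel.condition _)
    have hS : S.ShortExact := { exact := ShortComplex.exact_of_g_is_cokernel _ (cokernelIsCokernel (Injective.ι G)) }
    haveI : Injective S.X₂ := inferInstanceAs (Injective (Injective.under _))
    haveI := hS.mono_f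
    let e : R.obj S.X₂ ⟶ cokernel (R.map S.f) := cokernel.π _
    let T₁ := ShortComplex.mk (R.map S.f) e (cokernel.condition _)
    have hT₁ : T₁.ShortExact :=
      { exact := ShortComplex.exact_of_g_is_cokernel _ (cokernelIsCokernel _)
        mono_f := inferInstanceAs (Mono (R.map S.f))
        epi_g := inferInstanceAs (Epi e) }
    haveI : Injective (R.obj S.X₂) := Injective.injective_of_adjoint adj _
    obtain ⟨z, rfl⟩ := Ext.covariant_sequence_exact₁ _ hT₁ y (Ext.eq_zero_of_injective _) (rfl : 0 + 1 = 0 + 1)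
    obtain ⟨u, rfl⟩ := (Ext.mk₀_bijective _ _).2 z
    let d : cokernel (R.map S.f) ⟶ R.obj S.X₃ := cokernel.desc _ (R.map S.g) (by
      rw [← R.map_comp, S.zero, R.map_zero])
    have hed : e ≫ d = R.map S.g := cokernel.π_desc _ _ _
    haveI : Mono d :=
      (ShortComplex.exact_iff_mono_cokernel_desc (S.map R)).1
        (hS.exact.map_of_mono_of_preservesKernel R inferInstance inferInstance)
    let f : L.obj P ⟶ S.X₃ := (adj.homEquiv _ _).symm (u ≫ d)
    obtain ⟨g, hg⟩ := Ext.covariant_sequence_exact₃ _ hS (Ext.mk₀ f) (rfl : 0 + 1 = 0 + 1)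
      (Subsingleton.elim (h := hG) _ _)
    obtain ⟨g, rfl⟩ := (Ext.mk₀_bijective _ _).2 g
    rw [Ext.mk₀_comp_mk₀] at hg
    have hg' : g ≫ S.g = f := (Ext.mk₀_bijective _ _).1 hg
    have hu : adj.homEquiv _ _ g ≫ e = u := by
      rw [← cancel_mono d, Category.assoc, hed, ← Adjunction.homEquiv_naturality_right, hg']
      exact (adj.homEquiv _ _).apply_symm_apply _
    rw [← hu, ← Ext.mk₀_comp_mk₀]
    exact comp_g_extClass hT₁ _
  | succ p ih =>
    intro G h hG
    refine subsingleton_of_forall_eq 0 fun y => ?_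
    let S := ShortComplex.mk (Injective.ι G) (cokernel.π (Injective.ι G)) (cokernel.condition _)
    have hS : S.ShortExact := { exact := ShortComplex.exact_of_g_is_cokernel _ (cokernelIsCokernel (Injective.ι G)) }
    haveI : Injective S.X₂ := inferInstanceAs (Injective (Injective.under _))
    haveI := hS.mono_f
    let Δ := SESResLib.derivedLES R
    have h2 : IsZero ((R.rightDerived 1).obj S.X₂) := R.isZero_rightDerived_obj_injective_succ 0 S.X₂
    let d : R.obj S.X₃ ⟶ (R.rightDerived 1).obj S.X₁ := R.rightDerivedZeroIsoSelf.inv.app S.X₃ ≫ Δ.δ S hS 0 1 rfl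
    haveI : Epi (Δ.δ S hS 0 1 rfl) := (Δ.exact₁ S hS 0 1 rfl).epi_f (h2.eq_of_tgt _ _)
    haveI : Epi d := epi_comp _ _
    have hgd : R.map S.g ≫ d = 0 := by
      have n := (R.rightDerivedZeroIsoSelf).inv.naturality S.g
      show R.map S.g ≫ R.rightDerivedZeroIsoSelf.inv.app S.X₃ ≫ _ = 0
      rw [← Category.assoc, n, Category.assoc, Δ.comp_δ S hS 0 1 rfl, comp_zero]
    have hex : (ShortComplex.mk (R.map S.g) d hgd).Exact := by
      refine ShortComplex.exact_of_iso ?_ (Δ.exact₃ S hS 0 1 rfl)
      refine ShortComplex.isoMk (R.rightDerivedZeroIsoSelf.app S.X₂) (R.rightDerivedZeroIsoSelf.app S.X₃) (Iso.refl _) ?_ ?_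
      · exact ((R.rightDerivedZeroIsoSelf).hom.naturality S.g).symm
      · show R.rightDerivedZeroIsoSelf.hom.app S.X₃ ≫ d = Δ.δ S hS 0 1 rfl ≫ 𝟙 _
        rw [Category.comp_id, ← Category.assoc, Iso.hom_inv_id_app, Category.id_comp]
    let e : R.obj S.X₂ ⟶ kernel d := kernel.lift d (R.map S.g) hgd
    have he : e ≫ kernel.ι d = R.map S.g := kernel.lift_ι _ _ _
    haveI : Epi e := hex.epi_kernelLift
    let T₁ := ShortComplex.mk (R.map S.f) e (by
      rw [← cancel_mono (kernel.ι d), Category.assoc, he, zero_comp, ← R.map_comp, S.zero, R.map_zero])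
    have hT₁ : T₁.ShortExact :=
      { exact := (ShortComplex.exact_iff_of_epi_of_isIso_of_mono
          (φ := ({ τ₁ := 𝟙 _, τ₂ := 𝟙 _, τ₃ := kernel.ι d,
                   comm₁₂ := by simp [T₁]
                   comm₂₃ := by simp [T₁, he] } : T₁ ⟶ S.map R))).2
            (hS.exact.map_of_mono_of_preservesKernel R inferInstance inferInstance)
        mono_f := inferInstanceAs (Mono (R.map S.f))
        epi_g := inferInstanceAs (Epi e) }
    let T₂ := ShortComplex.mk (kernel.ι d) d (kernel.condition d)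
    have hT₂ : T₂.ShortExact := { exact := ShortComplex.exact_of_f_is_kernel _ (kernelIsKernel d) }
    haveI : Injective (R.obj S.X₂) := Injective.injective_of_adjoint adj _
    obtain ⟨z, rfl⟩ := Ext.covariant_sequence_exact₁ _ hT₁ y (Ext.eq_zero_of_injective _)
      (rfl : p + 1 + 1 = p + 1 + 1)
    haveI hC : Subsingleton (Ext P (R.obj S.X₃) (p + 1)) := ih S.X₃ (fun a b hab => by
      haveI := h a (b + 1) (by omega)
      haveI : IsIso (Δ.δ S hS (b + 1) (b + 2) rfl) := by
        haveI := (Δ.exact₃ S hS (b + 1) (b + 2) rfl).mono_g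
          ((R.isZero_rightDerived_obj_injective_succ b S.X₂).eq_of_src _ _)
        haveI := (Δ.exact₁ S hS (b + 1) (b + 2) rfl).epi_f
          ((R.isZero_rightDerived_obj_injective_succ (b + 1) S.X₂).eq_of_tgt _ _)
        exact isIso_of_mono_of_epi _
      exact (postcomp_bijective (inv (Δ.δ S hS (b + 1) (b + 2) rfl)) a).2.subsingleton) <| by
      refine subsingleton_of_forall_eq 0 fun v => ?_
      obtain ⟨w, hw⟩ := Ext.covariant_sequence_exact₃ _ hS v (rfl : p + 1 + 1 = p + 1 + 1)
        (Subsingleton.elim (h := hG) _ _)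
      rw [← hw, Ext.eq_zero_of_injective w, Ext.zero_comp]
    haveI h1 : Subsingleton (Ext P ((R.rightDerived 1).obj S.X₁) p) := h p 0 rfl
    obtain ⟨v, hv⟩ := Ext.covariant_sequence_exact₁ _ hT₂ z (Subsingleton.elim (h := hC) _ _) (rfl : p + 1 = p + 1)
    rw [← hv, show v = 0 from Subsingleton.elim (h := h1) _ _, Ext.zero_comp, Ext.zero_comp]

end Abstract

open AlgebraicGeometry

/-- Cohomology of a direct image vanishes when that of the sheaf and of its higher direct images does. -/
theorem subsingleton_H_push {X Y : Scheme.{u₁}} (f : X ⟶ Y) [EtCoh.BCCont f] (F : EtCoh.Ab X) (p : ℕ)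
    (h : ∀ a b : ℕ, a + (b + 1) = p → Subsingleton (EtCoh.H Y ((EtCoh.Rpush f (b + 1)).obj F) a))
    (hF : Subsingleton (EtCoh.H X F (p + 1))) :
    Subsingleton (EtCoh.H Y ((EtCoh.push f).obj F) (p + 1)) := by
  haveI : PreservesFiniteLimits (EtCoh.pull f) := pull_preservesFiniteLimits f
  haveI : PreservesFiniteLimits (EtCoh.push f) := push_preservesFiniteLimits f
  haveI : (EtCoh.pull f).IsLeftAdjoint := (EtCoh.pullPushAdj f).isLeftAdjoint
  haveI : PreservesFiniteColimits (EtCoh.pull f) := by
    haveI : PreservesColimitsOfSize.{0, 0} (EtCoh.pull f) := (EtCoh.pullPushAdj f).leftAdjoint_preservesColimits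
    exact PreservesColimitsOfSize.preservesFiniteColimits _
  haveI : (EtCoh.pull f).Additive := (EtCoh.pullPushAdj f).left_adjoint_additive
  haveI : (EtCoh.push f).Additive := (EtCoh.pullPushAdj f).right_adjoint_additive
  exact subsingleton_ext_obj (EtCoh.pullPushAdj f) (EtCoh.const Y ℤ) p F h
    ((precomp_bijective (EtCore.pullConst f ℤ).hom (p + 1)).2.subsingleton)

end Groth.Agent.CdFin
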