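import Groth.Agent.CdFin.PointStalk
import Groth.Agent.CdFin.EdgeInj
import Groth.Agent.RatCoh13.Main
import Groth.Agent.S0145
import Groth.Agent.S0148
import Groth.Agent.EtFound.Crit
import Groth.Agent.AcycCover.Family
import Groth.Agent.VarDim.Fibre

/-!
# Cohomological dimension of schemes of finite type over separably closed fields
-/

set_option autoImplicit false
set_option linter.style.haveILetI false
set_option backward.isDefEq.respectTransparency false
set_option backward.isDefEq.respectTransparency.types false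
set_option maxHeartbeats 1000000

universe u

open CategoryTheory CategoryTheory.Limits AlgebraicGeometry Opposite CategoryTheory.Abelian

namespace Groth.Agent.CdFin

open Groth.Agent.EtFound Groth.Agent.GalCd13

variable {X : Scheme.{u}}

theorem subsingleton_H_of_isZero {G : EtCoh.Ab X} (hz : IsZero G) (q : ℕ) : Subsingleton (EtCoh.H X G q) :=
  subsingleton_of_forall_eq 0 fun x => by
    rw [← Ext.comp_mk₀_id x, (IsZero.iff_id_eq_zero G).1 hz, Ext.mk₀_zero, Ext.comp_zero]

theorem isZero_of_supp_subset_empty {G : EtCoh.Ab X} (h : EtPBC.supp G ⊆ ∅) : IsZero G :=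
  (isZero_iff_stalks G).2 fun Ω _ _ ξ => by
    by_contra h'
    exact h ⟨Ω, _, _, ξ, range_point ξ, h'⟩

theorem isZero_stalk_of_notMem_supp {G : EtCoh.Ab X} {Ω : Type u} [Field Ω] [IsSepClosed Ω]
    (ξ : Spec (CommRingCat.of Ω) ⟶ X) (h : ξ.base (default : Spec (CommRingCat.of Ω)) ∉ EtPBC.supp G) :
    IsZero ((EtCoh.stalk ξ).obj G) :=
  by_contra fun h' => h ⟨Ω, _, _, ξ, range_point ξ, h'⟩

theorem mem_of_supp {G : EtCoh.Ab X} {E : Set X}
    (h : ∀ (Ω : Type u) [Field Ω] [IsSepClosed Ω] (ξ : Spec (CommRingCat.of Ω) ⟶ X),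
      ξ.base (default : Spec (CommRingCat.of Ω)) ∉ E → IsZero ((EtCoh.stalk ξ).obj G)) : EtPBC.supp G ⊆ E := by
  intro x ⟨Ω, _, _, ξ, hr, hne⟩
  by_contra hx
  have hb : ξ.base (default : Spec (CommRingCat.of Ω)) = x := Set.mem_singleton_iff.1 (hr ▸ ⟨_, rfl⟩)
  exact hne (h Ω ξ (hb ▸ hx))

theorem isTorsion_of_mono {F G : EtCoh.Ab X} (a : F ⟶ G) [Mono a] (hG : EtCoh.IsTorsion G) :
    EtCoh.IsTorsion F := by
  refine (BCCrit13.isTorsion_iff_stalks F).2 fun Ω _ _ ξ t => ?_
  obtain ⟨m, hm, h⟩ := (BCCrit13.isTorsion_iff_stalks G).1 hG Ω ξ ((EtCoh.stalk ξ).map a t)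
  refine ⟨m, hm, (mono_iff_stalks a).1 inferInstance Ω ξ ?_⟩
  exact (map_nsmul ((EtCoh.stalk ξ).map a).hom m t).trans (h.trans (map_zero _).symm)

theorem isTorsion_of_isConstructible {G : EtCoh.Ab X} (h : EtPBC.IsConstructible G) : EtCoh.IsTorsion G := by
  refine (BCCrit13.isTorsion_iff_stalks G).2 fun Ω _ _ ξ t => ?_
  haveI := (isWeaklyConstructible_of_isConstructible h).finite Ω ξ
  exact ⟨Nat.card ((EtCoh.stalk ξ).obj G), Nat.card_pos, card_nsmul_eq_zero'⟩

theorem isTorsion_biproduct {ι : Type u} [Finite ι] (P : ι → EtCoh.Ab X) (h : ∀ i, EtCoh.IsTorsion (P i)) :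
    EtCoh.IsTorsion (⨁ P) := by
  classical
  haveI := Fintype.ofFinite ι
  refine (BCCrit13.isTorsion_iff_stalks _).2 fun Ω _ _ ξ t => ?_
  haveI : (EtCoh.stalk ξ).Additive := Functor.additive_of_preserves_binary_products _
  choose m hm h0 using fun i => (BCCrit13.isTorsion_iff_stalks (P i)).1 (h i) Ω ξ
    ((EtCoh.stalk ξ).map (biproduct.π P i) t)
  refine ⟨∏ i, m i, Finset.prod_pos fun i _ => hm i, ?_⟩
  have hid : ∑ i, (EtCoh.stalk ξ).map (biproduct.π P i) ≫ (EtCoh.stalk ξ).map (biproduct.ι P i) = 𝟙 _ := by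
    simp_rw [← Functor.map_comp]
    rw [← Functor.map_sum, RatCoh13.biproduct_total, CategoryTheory.Functor.map_id]
  have ht : ∑ i, (EtCoh.stalk ξ).map (biproduct.ι P i) ((EtCoh.stalk ξ).map (biproduct.π P i) t) = t :=
    (AcycCover.sum_apply (A := (EtCoh.stalk ξ).obj (⨁ P)) Finset.univ
      (fun i => (EtCoh.stalk ξ).map (biproduct.π P i) ≫ (EtCoh.stalk ξ).map (biproduct.ι P i)) t).symm.trans
      (ConcreteCategory.congr_hom hid t)
  rw [← ht, Finset.smul_sum]
  refine Finset.sum_eq_zero fun i _ => ?_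
  obtain ⟨c, hc⟩ := Finset.dvd_prod_of_mem m (Finset.mem_univ i)
  rw [hc, mul_comm, mul_smul, ← map_nsmul, h0 i, map_zero, smul_zero]

variable {k : Type u} [Field k] [IsSepClosed k] (f : X ⟶ Spec (CommRingCat.of k)) [LocallyOfFiniteType f]

omit [IsSepClosed k] in
theorem stableUnderSpecialization_deg_lt (d : ℕ) : StableUnderSpecialization {x : X | VarDim.deg f x < d} :=
  fun _ _ h hx => (VarDim.deg_le_of_specializes f h).trans_lt hx

/-- Sheaves supported on points of dimension `< d` have no cohomology from degree `2 d - 1` on. -/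
def VanishBelow (d : ℕ) : Prop :=
  ∀ F : EtCoh.Ab X, EtCoh.IsTorsion F → EtPBC.supp F ⊆ {x : X | VarDim.deg f x < d} →
    ∀ q : ℕ, 2 * d ≤ q + 1 → Subsingleton (EtCoh.H X F q)

theorem cohDimLE_residueField (η : X) : EtCoh.CohDimLE (Spec (X.residueField η)) (VarDim.deg f η) := by
  letI : Algebra k (X.residueField η) := (VarDim.resHom f η).toAlgebra
  have h : EtCoh.CohDimLE (Spec (CommRingCat.of (X.residueField η))) (0 + VarDim.deg f η) :=
    cohDimLE_of_trdeg (VarDim.deg f η) k (X.residueField η) 0 (cohDimLE_sepClosed k) (VarDim.deg_eq_tdeg f η).ge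
  rw [Nat.zero_add] at h
  exact h

theorem subsingleton_H_push_point [CompactSpace X] {d : ℕ} (ih : ∀ e ≤ d, VanishBelow f e) (η : X)
    (hη : VarDim.deg f η ≤ d) {G : EtCoh.Ab (Spec (X.residueField η))} (hG : EtCoh.IsTorsion G) (p : ℕ)
    (hp : 2 * d ≤ p) : Subsingleton (EtCoh.H X ((EtCoh.push (X.fromSpecResidueField η)).obj G) (p + 1)) := by
  haveI : IsLocallyNoetherian X := LocallyOfFiniteType.isLocallyNoetherian f
  haveI : QuasiCompact (X.fromSpecResidueField η) :=
    (quasiCompact_iff _).2 fun U _ _ => (Set.toFinite _).isCompact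
  haveI : QuasiSeparated (X.fromSpecResidueField η) := inferInstance
  refine subsingleton_H_push (X.fromSpecResidueField η) G p (fun a b hab => ?_)
    (cohDimLE_residueField f η G hG (p + 1) (by omega))
  refine ih (d - b) (Nat.sub_le _ _) _ (isTorsion_Rpush _ hG _) (mem_of_supp fun Ω _ _ ξ hξ => ?_) a (by omega)
  refine isZero_stalk_Rpush_point f η hG (b + 1) ξ fun _ => ?_
  simp only [Set.mem_ofPred_eq, not_lt] at hξ
  omega

theorem vanishBelow [CompactSpace X] : ∀ d : ℕ, VanishBelow f d := by
  intro d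
  induction d using Nat.strong_induction_on with
  | _ d IH =>
    cases d with
    | zero =>
      intro F _ hs q _
      exact subsingleton_H_of_isZero (isZero_of_supp_subset_empty (hs.trans fun x hx => Nat.not_lt_zero _ hx)) q
    | succ d =>
      intro F hF hs q hq
      have ih : ∀ e ≤ d, VanishBelow f e := fun e he => IH e (Nat.lt_succ_of_le he)
      haveI : IsLocallyNoetherian X := LocallyOfFiniteType.isLocallyNoetherian f
      haveI : IsNoetherian X := ⟨⟩
      obtain ⟨J, i₁, i₂, D, c, hc, ⟨e⟩, hD⟩ :=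
        S0145.result X _ (stableUnderSpecialization_deg_lt f (d + 1)) F hF hs
      letI := i₁
      haveI := i₂
      haveI := EtLC12.QcqsAcyclic.preservesColimitsOfShape_HF X q J
      let hc' := isColimitOfPreserves (EtCoh.HF X q) hc
      suffices hstage : ∀ j, Subsingleton (EtCoh.H X (D.obj j) q) by
        have h0 : IsZero ((EtCoh.HF X q).obj c.pt) := by
          refine (IsZero.iff_id_eq_zero _).2 (hc'.hom_ext fun j => ?_)
          exact (@AddCommGrpCat.isZero_of_subsingleton ((EtCoh.HF X q).obj (D.obj j)) (hstage j)).eq_of_src _ _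
        exact RatCoh13.subsingleton_H_of_iso e q (AddCommGrpCat.subsingleton_of_isZero h0)
      intro j
      obtain ⟨hcon, Z, hZc, hZE, hsZ⟩ := hD j
      set G := D.obj j with hGdef
      have hG : EtCoh.IsTorsion G := isTorsion_of_isConstructible hcon
      obtain ⟨q, rfl⟩ : ∃ q', q = q' + 1 := ⟨q - 1, by omega⟩
      classical
      let T : Set X := {z | z ∈ Z ∧ VarDim.deg f z = d}
      have hT : T.Finite := by
        obtain ⟨S, hSf, hSc, hSi, hSZ⟩ := TopologicalSpace.NoetherianSpace.exists_finite_set_isClosed_irreducible hZc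
        refine (hSf.biUnion' (t := fun t ht => ({(hSi t ht).genericPoint} : Set X)) fun t ht => Set.finite_singleton _).subset ?_
        rintro z ⟨hz, hzd⟩
        rw [hSZ] at hz
        obtain ⟨t, ht, hzt⟩ := Set.mem_sUnion.1 hz
        have hg := (hSi t ht).isGenericPoint_genericPoint (hSc t ht)
        refine Set.mem_iUnion₂.2 ⟨t, ht, ?_⟩
        have hgZ : (hSi t ht).genericPoint ∈ Z := hSZ ▸ Set.mem_sUnion.2 ⟨t, ht, hg.mem⟩
        have hgd : VarDim.deg f (hSi t ht).genericPoint < d + 1 := hZE hgZ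
        exact (VarDim.eq_of_specializes_of_deg_le f (hg.specializes hzt) (by omega)).symm
      let ι : Type u := T
      haveI : Finite ι := hT.to_subtype
      haveI := Fintype.ofFinite ι
      let jj : ∀ g : ι, Spec (X.residueField g.1) ⟶ X := fun g => X.fromSpecResidueField g.1
      let P : ι → EtCoh.Ab X := fun g => (EtCoh.push (jj g)).obj ((EtCoh.pull (jj g)).obj G)
      let φ : G ⟶ ⨁ P := biproduct.lift fun g => (EtCoh.pullPushAdj (jj g)).unit.app G
      have hGj : ∀ g, EtCoh.IsTorsion ((EtCoh.pull (jj g)).obj G) := fun g => (BCCrit13.isLTorsion_univ_iff _).1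
        (isLTorsion_pull (jj g) Set.univ ((BCCrit13.isLTorsion_univ_iff _).2 hG))
      have hP : ∀ g, EtCoh.IsTorsion (P g) := fun g =>
        isTorsion_of_iso ((EtCoh.push (jj g)).rightDerivedZeroIsoSelf.app _) (isTorsion_Rpush (jj g) (hGj g) 0)
      have hφ : ∀ (Ω : Type u) [Field Ω] [IsSepClosed Ω] (ξ : Spec (CommRingCat.of Ω) ⟶ X),
          d ≤ VarDim.deg f (ξ.base (default : Spec (CommRingCat.of Ω))) → IsIso ((EtCoh.stalk ξ).map φ) := by
        intro Ω _ _ ξ hξ
        set x := ξ.base (default : Spec (CommRingCat.of Ω)) with hx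
        haveI : (EtCoh.stalk ξ).Additive := Functor.additive_of_preserves_binary_products _
        have hoff : ∀ g : ι, g.1 ≠ x → IsZero ((EtCoh.stalk ξ).obj (P g)) := fun g hg =>
          RatCoh13.isZero_stalk_push_point g.1 _ ξ fun h => hg
            (VarDim.eq_of_specializes_of_deg_le f h (g.2.2.le.trans hξ))
        by_cases hxT : x ∈ T
        · let g : ι := ⟨x, hxT⟩
          haveI : IsIso ((EtCoh.stalk ξ).map ((EtCoh.pullPushAdj (jj g)).unit.app G)) :=
            RatCoh13.isIso_stalk_unit_point g.1 G ξ hx.symm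
          haveI : IsIso ((EtCoh.stalk ξ).map (biproduct.π P g)) := by
            refine ⟨(EtCoh.stalk ξ).map (biproduct.ι P g), ?_, ?_⟩
            · have hid : (EtCoh.stalk ξ).map (∑ k, biproduct.π P k ≫ biproduct.ι P k) = 𝟙 _ := by
                rw [RatCoh13.biproduct_total, CategoryTheory.Functor.map_id]
              rw [Functor.map_sum, Finset.sum_eq_single g (fun k _ hk => ?_) (by simp)] at hid
              · rw [← Functor.map_comp]; exact hid
              · rw [Functor.map_comp]
                exact (congrArg (· ≫ _) ((hoff k fun h => hk (Subtype.ext h)).eq_of_tgt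
                  ((EtCoh.stalk ξ).map (biproduct.π P k)) 0)).trans zero_comp
            · rw [← Functor.map_comp, biproduct.ι_π_self, CategoryTheory.Functor.map_id]
          have hfac : (EtCoh.stalk ξ).map φ ≫ (EtCoh.stalk ξ).map (biproduct.π P g) =
              (EtCoh.stalk ξ).map ((EtCoh.pullPushAdj (jj g)).unit.app G) := by
            rw [← Functor.map_comp, biproduct.lift_π]
          exact IsIso.of_isIso_fac_right hfac
        · have h1 : IsZero ((EtCoh.stalk ξ).obj G) := isZero_stalk_of_notMem_supp ξ fun h => by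
            have hdx : VarDim.deg f x < d + 1 := hZE (hsZ h)
            exact hxT ⟨hsZ h, by omega⟩
          have h2 : IsZero ((EtCoh.stalk ξ).obj (⨁ P)) := by
            rw [IsZero.iff_id_eq_zero, ← CategoryTheory.Functor.map_id, ← RatCoh13.biproduct_total P, Functor.map_sum]
            refine Finset.sum_eq_zero fun g _ => ?_
            rw [Functor.map_comp]
            exact (congrArg (· ≫ _) ((hoff g fun h => hxT (h ▸ g.2)).eq_of_tgt
              ((EtCoh.stalk ξ).map (biproduct.π P g)) 0)).trans zero_comp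
          exact ⟨0, h1.eq_of_src _ _, h2.eq_of_src _ _⟩
      let S₁ := ShortComplex.mk (kernel.ι φ) (Abelian.factorThruImage φ) (by
        rw [← cancel_mono (Abelian.image.ι φ), Category.assoc, Abelian.image.fac, kernel.condition, zero_comp])
      let S₂ := ShortComplex.mk (Abelian.image.ι φ) (cokernel.π φ) (kernel.condition _)
      have hS₂ : S₂.ShortExact := { exact := ShortComplex.exact_of_f_is_kernel _ (kernelIsKernel _) }
      have hS₁ : S₁.ShortExact :=
        { exact := ShortComplex.exact_of_f_is_kernel _ (KernelFork.IsLimit.ofι' _ _ fun {W} k hk => by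
            refine ⟨kernel.lift φ k ?_, kernel.lift_ι _ _ _⟩
            rw [← Abelian.image.fac φ, ← Category.assoc, hk, zero_comp]) }
      have hker : Subsingleton (EtCoh.H X S₁.X₁ (q + 1)) := by
        refine ih d le_rfl _ (isTorsion_of_mono (kernel.ι φ) hG) (mem_of_supp fun Ω _ _ ξ hξ => ?_) (q + 1) (by omega)
        haveI := hφ Ω ξ (not_lt.1 hξ)
        refine IsZero.of_mono_eq_zero ((EtCoh.stalk ξ).map (kernel.ι φ)) ?_
        rw [← cancel_mono ((EtCoh.stalk ξ).map φ), ← Functor.map_comp, kernel.condition, Functor.map_zero, zero_comp]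
      have hcok : Subsingleton (EtCoh.H X S₂.X₃ q) := by
        refine ih d le_rfl _ (BCCrit13.isTorsion_of_epi (cokernel.π φ) (isTorsion_biproduct P hP))
          (mem_of_supp fun Ω _ _ ξ hξ => ?_) q (by omega)
        haveI := hφ Ω ξ (not_lt.1 hξ)
        refine IsZero.of_epi_eq_zero ((EtCoh.stalk ξ).map (cokernel.π φ)) ?_
        rw [← cancel_epi ((EtCoh.stalk ξ).map φ), ← Functor.map_comp, cokernel.condition, Functor.map_zero, comp_zero]
      have hmid : Subsingleton (EtCoh.H X S₂.X₂ (q + 1)) :=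
        RatCoh13.subsingleton_H_biproduct P (q + 1) fun g =>
          subsingleton_H_push_point f ih g.1 g.2.2.le (hGj g) q (by omega)
      exact RatCoh13.subsingleton_H_middle hS₁ (q + 1) hker (RatCoh13.subsingleton_H_left hS₂ q hmid hcok)

/-- Torsion sheaves supported in dimension `≤ d` have no cohomology above degree `2 d`. -/
theorem subsingleton_H_of_supp [CompactSpace X] {d : ℕ} {F : EtCoh.Ab X} (hF : EtCoh.IsTorsion F)
    (hs : ∀ x ∈ EtPBC.supp F, VarDim.deg f x ≤ d) {q : ℕ} (hq : 2 * d < q) : Subsingleton (EtCoh.H X F q) :=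
  vanishBelow f (d + 1) F hF (fun x hx => Nat.lt_succ_of_le (hs x hx)) q (by omega)

include f in
/-- A scheme of finite type over a separably closed field of dimension `≤ n` has dimension `≤ 2 n`. -/
theorem cohDimLE_two_mul [CompactSpace X] {n : ℕ} (hn : topologicalKrullDim X ≤ n) :
    EtCoh.CohDimLE X (2 * n) := fun F hF q hq => subsingleton_H_of_supp f hF (fun x _ => by
  have h := hn
  rw [VarDim.topologicalKrullDim_eq_iSup_deg f] at h
  exact_mod_cast (le_iSup (fun x : X => ((VarDim.deg f x : ℕ∞) : WithBot ℕ∞)) x).trans h) hq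

end Groth.Agent.CdFin
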