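import Groth.Agent.CdFin.DimFn
import Groth.Agent.GalCd13.TrdegPrimary
import Groth.Agent.BrnchLib.SmoothBranch
import Groth.Agent.S0541
import Groth.Agent.FibDim.RelDim

/-!
# Cohomological dimension from dimension functions: consequences
-/

set_option autoImplicit false
set_option linter.style.haveILetI false
set_option backward.isDefEq.respectTransparency false
set_option backward.isDefEq.respectTransparency.types false
set_option maxHeartbeats 1000000

universe u

open CategoryTheory CategoryTheory.Limits AlgebraicGeometry Opposite CategoryTheory.Abelian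

namespace Groth.Agent.CdFin

open Groth.Agent.EtFound Groth.Agent.GalCd13 Groth.Agent.EtTrace

variable {X : Scheme.{u}} {ℓ : ℕ}

/-- The extended prime of a generization is proper. -/
theorem map_ker_specMap_ne_top {η x : X} (h : η ⤳ x) (R : Type u) [CommRing R] [IsLocalRing R]
    [Algebra (X.presheaf.stalk x) R] [IsLocalHom (algebraMap (X.presheaf.stalk x) R)] :
    (RingHom.ker (Cyc.specMap x η h)).map (algebraMap (X.presheaf.stalk x) R) ≠ ⊤ := by
  haveI : (RingHom.ker (Cyc.specMap x η h)).IsPrime := RingHom.ker_isPrime _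
  refine ne_top_of_le_ne_top (IsLocalRing.maximalIdeal.isMaximal R).ne_top
    (Ideal.map_le_iff_le_comap.2 fun c hc => ?_)
  have hc' := IsLocalRing.le_maximalIdeal (Ideal.IsPrime.ne_top' (I := RingHom.ker (Cyc.specMap x η h))) hc
  exact fun hu => hc' (isUnit_of_map_unit (algebraMap (X.presheaf.stalk x) R) c hu)

/-- A dimension function bound on the fraction fields gives strict monotonicity. -/
theorem lt_of_fracBound {φ : X → ℕ} {η x : X} (h : η ⤳ x)
    (hd : ∀ (R : Type u) [CommRing R] [IsLocalRing R] [Algebra (X.presheaf.stalk x) R]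
      [IsLocalHom (algebraMap (X.presheaf.stalk x) R)] [Hensel.IsStrictHenselization (X.presheaf.stalk x) R],
      ∀ P ∈ ((RingHom.ker (Cyc.specMap x η h)).map (algebraMap (X.presheaf.stalk x) R)).minimalPrimes,
        ∃ d : ℕ, d + 1 + φ x ≤ φ η) : φ x < φ η := by
  obtain ⟨R, _, _, _, _, hR'⟩ := S0537.result (X.presheaf.stalk x)
  haveI := hR'
  obtain ⟨m, hm, hle⟩ := Ideal.exists_le_maximal _ (map_ker_specMap_ne_top h R)
  haveI := hm.isPrime
  obtain ⟨P, hP, -⟩ := Ideal.exists_minimalPrimes_le hle
  obtain ⟨d, hd⟩ := hd R P hP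
  omega

/-- The dimension of the extended prime's quotient is that of the local ring of the closure. -/
theorem ringKrullDim_quotient_map [IsLocallyNoetherian X] {η x : X} (h : η ⤳ x) (R : Type u) [CommRing R]
    [IsLocalRing R] [Algebra (X.presheaf.stalk x) R] [IsLocalHom (algebraMap (X.presheaf.stalk x) R)]
    [Hensel.IsStrictHenselization (X.presheaf.stalk x) R] :
    ringKrullDim (R ⧸ (RingHom.ker (Cyc.specMap x η h)).map (algebraMap (X.presheaf.stalk x) R)) =
      (DimFormula.cd η x : WithBot ℕ∞) := by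
  let I := RingHom.ker (Cyc.specMap x η h)
  let J := I.map (algebraMap (X.presheaf.stalk x) R)
  haveI : Nontrivial (R ⧸ J) := Ideal.Quotient.nontrivial_iff.2 (map_ker_specMap_ne_top h R)
  haveI : IsLocalRing (R ⧸ J) := .of_surjective' _ Ideal.Quotient.mk_surjective
  haveI : IsLocalRing (X.presheaf.stalk x ⧸ I) := CycLib.isLocalRing_locQuot h
  haveI : IsLocalHom (Ideal.Quotient.mk J) := .of_surjective _ Ideal.Quotient.mk_surjective
  haveI : IsLocalHom (algebraMap (X.presheaf.stalk x ⧸ I) (R ⧸ J)) := by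
    constructor
    intro b hb
    obtain ⟨b, rfl⟩ := Ideal.Quotient.mk_surjective b
    have hb' : IsUnit (Ideal.Quotient.mk J (algebraMap (X.presheaf.stalk x) R b)) := hb
    exact (isUnit_of_map_unit (algebraMap (X.presheaf.stalk x) R) b (isUnit_of_map_unit _ _ hb')).map _
  haveI := BrnchLib.isStrictHenselization_quotient (A := X.presheaf.stalk x) (S := R) I
  rw [S0541.result (X.presheaf.stalk x ⧸ I) (R ⧸ J)]
  exact CycLib.ringKrullDim_locQuot h

/-- Sheaves of `ℓ`-primary torsion supported where `φ < q` have no cohomology in degree `q`. -/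
theorem subsingleton_H_primary [IsNoetherian X] (hℓ : ℓ.Prime) {φ : X → ℕ} (hφ : IsCdFun ℓ φ) {F : EtCoh.Ab X}
    (hF : Dix.IsPrimaryTorsion ℓ F) (q : ℕ) (hs : ∀ x ∈ EtPBC.supp F, φ x < q) :
    Subsingleton (EtCoh.H X F q) := by
  refine subsingleton_of_forall_eq 0 fun z => ?_
  obtain ⟨G, a, f, y, ha, rfl⟩ := exists_bounded_primary hℓ hF q z
  have hI : ℓ ^ a • 𝟙 (Abelian.image f) = 0 := by
    rw [← cancel_epi (Abelian.factorThruImage f), comp_zero, Preadditive.comp_nsmul, Category.comp_id,
      ← Category.id_comp (Abelian.factorThruImage f), ← Preadditive.nsmul_comp, ha, zero_comp]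
  have hsI : EtPBC.supp (Abelian.image f) ⊆ {x : X | φ x < q} := mem_of_supp fun Ω _ _ ξ hξ =>
    IsZero.of_mono ((EtCoh.stalk ξ).map (Abelian.image.ι f)) (isZero_stalk_of_notMem_supp ξ fun h => hξ (hs _ h))
  haveI := phiVanish hℓ.pos hφ q (Abelian.image f) a hI hsI q le_rfl
  rw [← Abelian.image.fac f, ← Ext.mk₀_comp_mk₀, ← Ext.comp_assoc_of_third_deg_zero,
    show y.comp (Ext.mk₀ (Abelian.factorThruImage f)) (add_zero q) = 0 from
      Subsingleton.elim (α := EtCoh.H X (Abelian.image f) q) _ _, Ext.zero_comp]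

theorem killedVanish_mono {W : Scheme.{u}} {d e : ℕ} (h : KilledVanish W ℓ d) (hde : d ≤ e) : KilledVanish W ℓ e :=
  fun G a ha q hq => h G a ha q (by omega)

end Groth.Agent.CdFin
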