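import Groth.Agent.GalCd13.Trdeg
import Groth.Agent.S0171

/-!
# Cohomological dimension of tensor products of fields
-/

set_option autoImplicit false
set_option linter.style.haveILetI false
set_option backward.isDefEq.respectTransparency false
set_option backward.isDefEq.respectTransparency.types false
set_option maxHeartbeats 1000000

universe u

open CategoryTheory CategoryTheory.Limits AlgebraicGeometry Opposite CategoryTheory.Abelian
open scoped TensorProduct Polynomial nonZeroDivisors

namespace Groth.Agent.CdFin

open Groth.Agent.EtFound Groth.Agent.GalCd13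

/-- Integral morphisms do not increase the cohomological dimension. -/
theorem cohDimLE_of_integral {W Y : Scheme.{u}} (h : W ⟶ Y) [IsIntegralHom h] {e : ℕ}
    (hY : EtCoh.CohDimLE Y e) : EtCoh.CohDimLE W e := by
  intro F hF q hq
  have ht : EtCoh.IsTorsion ((EtCoh.push h).obj F) :=
    isTorsion_of_iso ((EtCoh.push h).rightDerivedZeroIsoSelf.app F) (isTorsion_Rpush h hF 0)
  obtain ⟨e'⟩ := S8575.nonempty_H_push h F q
  haveI := hY _ ht q hq
  exact e'.symm.toEquiv.subsingleton

theorem cohDimLE_of_ringHom {A B : Type u} [CommRing A] [CommRing B] (g : A →+* B) (hg : g.IsIntegral) {e : ℕ}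
    (hA : EtCoh.CohDimLE (Spec (CommRingCat.of A)) e) : EtCoh.CohDimLE (Spec (CommRingCat.of B)) e :=
  haveI : IsIntegralHom (Spec.map (CommRingCat.ofHom g)) := IsIntegralHom.SpecMap_iff.2 hg
  cohDimLE_of_integral (Spec.map (CommRingCat.ofHom g)) hA

/-- Separably closed fields have dimension zero. -/
theorem cohDimLE_sepClosed (M : Type u) [Field M] [IsSepClosed M] :
    EtCoh.CohDimLE (Spec (CommRingCat.of M)) 0 := by
  intro F _ q hq
  haveI : Subsingleton (Spec (CommRingCat.of M)) := inferInstanceAs (Subsingleton (PrimeSpectrum M))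
  exact S0171.result _ (𝟙 _) F (fun x _ => Set.subsingleton_singleton.isClosed) q hq

section RatFunc

variable (K M : Type u) [Field K] [Field M] [Algebra K M]

/-- Evaluation of polynomials at the variable of the left factor. -/
noncomputable def polyToTensor : M[X] →+* RatFunc K ⊗[K] M :=
  Polynomial.eval₂RingHom (Algebra.TensorProduct.includeRight (R := K) (A := RatFunc K) (B := M)).toRingHom
    ((RatFunc.X : RatFunc K) ⊗ₜ 1)

theorem toRatFuncClosure_polyToTensor (p : M[X]) :
    toRatFuncClosure K M (polyToTensor K M p) =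
      algebraMap (AlgebraicClosure M)[X] (RatFunc (AlgebraicClosure M)) (p.map (algebraMap M (AlgebraicClosure M))) := by
  suffices h : (toRatFuncClosure K M).toRingHom.comp (polyToTensor K M) =
      (algebraMap (AlgebraicClosure M)[X] (RatFunc (AlgebraicClosure M))).comp
        (Polynomial.mapRingHom (algebraMap M (AlgebraicClosure M))) from RingHom.congr_fun h p
  refine Polynomial.ringHom_ext (fun r => ?_) ?_
  · simp only [polyToTensor, RingHom.comp_apply, Polynomial.coe_eval₂RingHom, Polynomial.eval₂_C,
      AlgHom.toRingHom_eq_coe, RingHom.coe_coe, Algebra.TensorProduct.includeRight_apply, toRatFuncClosure_const]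
    simp
  · simp only [polyToTensor, RingHom.comp_apply, Polynomial.coe_eval₂RingHom, Polynomial.eval₂_X,
      AlgHom.toRingHom_eq_coe, RingHom.coe_coe]
    rw [← RatFunc.algebraMap_X, toRatFuncClosure_poly]
    simp

theorem injective_polyToTensor : Function.Injective (polyToTensor K M) := fun p q h => by
  have := congrArg (toRatFuncClosure K M) h
  rw [toRatFuncClosure_polyToTensor, toRatFuncClosure_polyToTensor] at this
  exact Polynomial.map_injective _ (algebraMap M (AlgebraicClosure M)).injective
    (RatFunc.algebraMap_injective (AlgebraicClosure M) this)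

variable [Algebra.IsAlgebraic K M]

theorem isField_tensor_ratFunc : IsField (RatFunc K ⊗[K] M) := by
  haveI : IsDomain (RatFunc K ⊗[K] M) :=
    (injective_toRatFuncClosure K M).isDomain (toRatFuncClosure K M).toRingHom
  exact isField_of_isIntegral_of_isField' (R := RatFunc K) (Field.toIsField _)

theorem cohDimLE_tensor_ratFunc {e : ℕ} (hM : EtCoh.CohDimLE (Spec (CommRingCat.of M)) e) :
    EtCoh.CohDimLE (Spec (CommRingCat.of (RatFunc K ⊗[K] M))) (e + 1) := by
  have hF := isField_tensor_ratFunc K M
  have hpoly : M[X]⁰ ≤ (RatFunc K ⊗[K] M)⁰.comap (polyToTensor K M) := fun p hp => by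
    letI := hF.toField
    exact mem_nonZeroDivisors_of_ne_zero fun h0 =>
      nonZeroDivisors.ne_zero hp (injective_polyToTensor K M (h0.trans (map_zero _).symm))
  haveI : IsDomain (RatFunc K ⊗[K] M) :=
    (injective_toRatFuncClosure K M).isDomain (toRatFuncClosure K M).toRingHom
  let g : RatFunc M →+* RatFunc K ⊗[K] M :=
    IsLocalization.lift (M := M[X]⁰) (S := RatFunc M) (g := polyToTensor K M) fun p =>
      let ⟨b, hb⟩ := hF.mul_inv_cancel (nonZeroDivisors.ne_zero (hpoly p.2))
      ⟨⟨_, b, hb, by rw [mul_comm, hb]⟩, rfl⟩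
  have hg : ∀ p : M[X], g (algebraMap M[X] (RatFunc M) p) = polyToTensor K M p := fun p => IsLocalization.lift_eq _ p
  have hmap : ∀ p : K[X], polyToTensor K M (p.map (algebraMap K M)) = algebraMap K[X] (RatFunc K) p ⊗ₜ 1 := by
    suffices (polyToTensor K M).comp (Polynomial.mapRingHom (algebraMap K M)) =
        ((Algebra.TensorProduct.includeLeft (R := K) (S := K) (A := RatFunc K) (B := M)).toRingHom).comp
          (algebraMap K[X] (RatFunc K)) from fun p => RingHom.congr_fun this p
    refine Polynomial.ringHom_ext (fun c => ?_) ?_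
    · simp only [RingHom.comp_apply, Polynomial.coe_mapRingHom, Polynomial.map_C, polyToTensor,
        Polynomial.coe_eval₂RingHom, Polynomial.eval₂_C, AlgHom.toRingHom_eq_coe,
        RingHom.coe_coe, Algebra.TensorProduct.includeLeft_apply, Algebra.TensorProduct.includeRight_apply]
      rw [← Polynomial.algebraMap_eq, ← IsScalarTower.algebraMap_apply K K[X] (RatFunc K),
        Algebra.algebraMap_eq_smul_one (A := RatFunc K), Algebra.algebraMap_eq_smul_one (A := M),
        TensorProduct.tmul_smul, TensorProduct.smul_tmul']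
    · simp [polyToTensor, RatFunc.algebraMap_X]
  have hleft : ∀ a : RatFunc K, a ⊗ₜ[K] (1 : M) ∈ g.range := fun a => by
    refine ⟨algebraMap M[X] (RatFunc M) (a.num.map (algebraMap K M)) /
      algebraMap M[X] (RatFunc M) (a.denom.map (algebraMap K M)), ?_⟩
    have hd : algebraMap M[X] (RatFunc M) (a.denom.map (algebraMap K M)) ≠ 0 :=
      RatFunc.algebraMap_ne_zero ((Polynomial.map_ne_zero_iff (algebraMap K M).injective).2 (RatFunc.denom_ne_zero a))
    have hd' : g (algebraMap M[X] (RatFunc M) (a.denom.map (algebraMap K M))) ≠ 0 := fun h0 =>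
      hd (g.injective (h0.trans (map_zero g).symm))
    refine mul_right_cancel₀ hd' ?_
    rw [← map_mul, div_mul_cancel₀ _ hd, hg, hg, hmap, hmap, Algebra.TensorProduct.tmul_mul_tmul, mul_one]
    congr 1
    exact ((div_eq_iff (RatFunc.algebraMap_ne_zero (RatFunc.denom_ne_zero a))).1 (RatFunc.num_div_denom a))
  have hsurj : Function.Surjective g := fun z => by
    induction z using TensorProduct.induction_on with
    | zero => exact ⟨0, map_zero g⟩
    | tmul a r =>
      obtain ⟨x, hx⟩ := hleft a
      refine ⟨x * algebraMap M[X] (RatFunc M) (Polynomial.C r), ?_⟩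
      rw [map_mul, hx, hg]
      simp [polyToTensor]
    | add a b ha hb =>
      obtain ⟨x, rfl⟩ := ha
      obtain ⟨y, rfl⟩ := hb
      exact ⟨x + y, map_add g x y⟩
  exact cohDimLE_of_ringHom g (RingHom.IsIntegral.of_finite (RingHom.Finite.of_surjective g hsurj))
    (cohDimLE_ratFunc M hM)

end RatFunc

theorem trdeg_ratFunc_ge_one (K : Type u) [Field K] : 1 ≤ Algebra.trdeg K (RatFunc K) := by
  rw [← Polynomial.trdeg_of_isDomain (R := K)]
  exact trdeg_le_of_injective (IsScalarTower.toAlgHom K K[X] (RatFunc K)) (RatFunc.algebraMap_injective K)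

/-- Transcendence degree `n` adds at most `n`, also after an algebraic base change. -/
theorem cohDimLE_tensor : ∀ (n : ℕ) (K L M : Type u) [Field K] [Field L] [Field M] [Algebra K L] [Algebra K M]
    [Algebra.IsAlgebraic K M] (e : ℕ), EtCoh.CohDimLE (Spec (CommRingCat.of M)) e → Algebra.trdeg K L ≤ n →
      EtCoh.CohDimLE (Spec (CommRingCat.of (L ⊗[K] M))) (e + n) := by
  intro n
  induction n with
  | zero =>
    intro K L M _ _ _ _ _ _ e hM htr
    haveI : Algebra.IsAlgebraic K L := trdeg_eq_zero_iff.1 (le_antisymm (by simpa using htr) zero_le)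
    let ι := (Algebra.TensorProduct.includeRight (R := K) (A := L) (B := M)).toRingHom
    refine cohDimLE_of_ringHom ι (fun z => ?_) hM
    induction z using TensorProduct.induction_on with
    | zero => exact ι.isIntegralElem_zero
    | tmul a r =>
      rw [← mul_one a, ← one_mul r, ← Algebra.TensorProduct.tmul_mul_tmul]
      refine RingHom.IsIntegralElem.mul ι ?_ (RingHom.isIntegralElem_map ι)
      obtain ⟨p, hp, hp0⟩ := Algebra.IsIntegral.isIntegral (R := K) a
      refine ⟨p.map (algebraMap K M), hp.map _, ?_⟩
      rw [Polynomial.eval₂_map]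
      have := congrArg (Algebra.TensorProduct.includeLeft (R := K) (S := K) (A := L) (B := M)) hp0
      rw [map_zero] at this
      rw [← this, ← AlgHom.coe_toRingHom, Polynomial.hom_eval₂]
      congr 1
      refine RingHom.ext fun c => ?_
      show (Algebra.TensorProduct.includeRight (R := K) (A := L) (B := M)) (algebraMap K M c) =
        (Algebra.TensorProduct.includeLeft (R := K) (S := K) (A := L) (B := M)) (algebraMap K L c)
      rw [AlgHom.commutes, AlgHom.commutes]
    | add a b ha hb => exact ha.add ι hb
  | succ n ih =>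
    intro K L M _ _ _ _ _ _ e hM htr
    by_cases hL : Algebra.IsAlgebraic K L
    · exact fun F hF q hq => ih K L M e hM ((trdeg_eq_zero_iff.2 hL).le.trans zero_le) F hF q (by omega)
    obtain ⟨t, ht⟩ : ∃ t : L, Transcendental K t := by
      by_contra! h
      exact hL ⟨fun x => not_not.1 (h x)⟩
    let K₁ := IntermediateField.adjoin K ({t} : Set L)
    let σ : RatFunc K →ₐ[K] L := K₁.val.comp (RatFunc.algEquivOfTranscendental t ht).toAlgHom
    letI : Algebra (RatFunc K) L := σ.toRingHom.toAlgebra
    haveI : IsScalarTower K (RatFunc K) L := IsScalarTower.of_algebraMap_eq fun c => (σ.commutes c).symm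
    letI : Field (RatFunc K ⊗[K] M) := (isField_tensor_ratFunc K M).toField
    have hadd := trdeg_add_eq K (RatFunc K) (A := L)
    have hle : 1 + Algebra.trdeg (RatFunc K) L ≤ 1 + (n : Cardinal.{u}) := by
      calc 1 + Algebra.trdeg (RatFunc K) L ≤ Algebra.trdeg K (RatFunc K) + Algebra.trdeg (RatFunc K) L := by
            gcongr; exact trdeg_ratFunc_ge_one K
        _ = Algebra.trdeg K L := hadd
        _ ≤ _ := by rw [add_comm]; exact_mod_cast htr
    have h := ih (RatFunc K) L (RatFunc K ⊗[K] M) (e + 1) (cohDimLE_tensor_ratFunc K M hM)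
      ((Cardinal.add_le_add_iff_of_lt_aleph0 (Cardinal.natCast_lt_aleph0 (n := 1))).1 (by simpa [add_comm] using hle))
    let c := Algebra.TensorProduct.cancelBaseChange K (RatFunc K) (RatFunc K) L M
    rw [show e + (n + 1) = e + 1 + n by omega]
    exact cohDimLE_of_ringHom c.toRingEquiv.toRingHom
      (RingHom.IsIntegral.of_finite (RingHom.Finite.of_surjective _ c.surjective)) h

end Groth.Agent.CdFin
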